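import Cfsg.Agent.Lib.T3.Fac
import Cfsg.Agent.Lib.T3.Hlp

/-! The Sylow 2-subgroup of `2.A₁₀`: letters `b x w c y a v u z` (generated). -/

set_option autoImplicit false
set_option maxRecDepth 100000

namespace Cfsg.Lib.DW

open Cfsg.Lib.Calc Cfsg.Lib.T2 Cfsg.Lib.T3 Cfsg.Lib.Grp Subgroup

def lm_L0 : List (ℕ × List ℕ) := [((nat_lit 0), [(nat_lit 0xbdab49ca307b9ac5a928398a418820), (nat_lit 0xbdab48c27213d09730c42a8036ace1), (nat_lit 0xbdab49ca11500cd4ade57106c09d02), (nat_lit 0x9ca30bdab43388b6292743c2d008a3), (nat_lit 0xad2f69ca305180e4ade1689072b064), (nat_lit 0xbda959ca3068d69230ce0a8ef12005), (nat_lit 0xbdab494e11411c0184ab61d427b526), (nat_lit 0xb5e9594e115b9a67a923030a440827), (nat_lit 0xbdab49ca1149d8453d61135062806e), (nat_lit 0xad2f69ca304b0e253d65238600990d), (nat_lit 0xbdab494e111b4474142f3012e5914c), (nat_lit 0xbdab4846723a8af0348c1ac41325c8), (nat_lit 0xbdab4846536a165200e2504cf70d89),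 (nat_lit 0xb5e958c27222161680ee494cf10d8a), (nat_lit 0xbdab48c253605483384078da93948b), (nat_lit 0xbdab48c25331523609c75a08a005af)]),
  ((nat_lit 1), [(nat_lit 0xbdab49ca307b9ac5a928398a418820), (nat_lit 0x8c253bdab44154c189cb399a978480), (nat_lit 0x9ca30a56f61a4ac4348f399c15a840), (nat_lit 0xad2d78c2535b44c784a33994e41120), (nat_lit 0xa56f684672591cc794233992243540), (nat_lit 0x94e11ad2d71a82c411af398455a5c0), (nat_lit 0x84672b5e954052c1b84b3988a795a0), (nat_lit 0xb5e9594e117888c5a5483982d1b8a0)]),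
  ((nat_lit 2), [(nat_lit 0xbdab49ca307b9ac5a928398a418820), (nat_lit 0xbda958c272435c61a54f3b0a259020)])]

def lm_D0 : List ℕ := [(nat_lit 0), (nat_lit 513), (nat_lit 1025), (nat_lit 1537), (nat_lit 2049), (nat_lit 2561), (nat_lit 3073), (nat_lit 4097), (nat_lit 1281), (nat_lit 2305), (nat_lit 3329), (nat_lit 237570), (nat_lit 250882), (nat_lit 262658), (nat_lit 295426), (nat_lit 307970), (nat_lit 0), (nat_lit 19470083), (nat_lit 17740547), (nat_lit 2719684356), (nat_lit 3116934916), (nat_lit 3564349188), (nat_lit 4049689348), (nat_lit 4592203524), (nat_lit 0), (nat_lit 396802)]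

def lm_L1 : List (ℕ × List ℕ) := [((nat_lit 0), [(nat_lit 0xbdab49ca307b9ac5a928398a418820), (nat_lit 0xbdab48c27213d09730c42a8036ace1), (nat_lit 0xbdab49ca11500cd4ade57106c09d02), (nat_lit 0x9ca30bdab43388b6292743c2d008a3), (nat_lit 0xad2f69ca305180e4ade1689072b064), (nat_lit 0xbda959ca3068d69230ce0a8ef12005), (nat_lit 0xbdab494e11411c0184ab61d427b526), (nat_lit 0xb5e9594e115b9a67a923030a440827), (nat_lit 0xbdab49ca1149d8453d61135062806e), (nat_lit 0xad2f69ca304b0e253d65238600990d), (nat_lit 0xbdab494e111b4474142f3012e5914c), (nat_lit 0xbdab4846723a8af0348c1ac41325c8), (nat_lit 0xbdab4846536a165200e2504cf70d89), (nat_lit 0xb5e958c27222161680ee494cf10d8a), (nat_lit 0xbdab48c253605483384078da93948b), (nat_lit 0xbdab48c25331523609c75a08a005af)]),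
  ((nat_lit 1), [(nat_lit 0xbdab49ca307b9ac5a928398a418820), (nat_lit 0x8c253bdab44154c189cb399a978480), (nat_lit 0x9ca30a56f61a4ac4348f399c15a840), (nat_lit 0xad2d78c2535b44c784a33994e41120), (nat_lit 0xa56f684672591cc794233992243540), (nat_lit 0x94e11ad2d71a82c411af398455a5c0), (nat_lit 0x84672b5e954052c1b84b3988a795a0), (nat_lit 0xb5e9594e117888c5a5483982d1b8a0)]),
  ((nat_lit 2), [(nat_lit 0xbdab49ca307b9ac5a928398a418820), (nat_lit 0xbda958c272435c61a54f3b0a259020)])]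

def lm_D1 : List ℕ := [(nat_lit 0), (nat_lit 513), (nat_lit 1025), (nat_lit 1537), (nat_lit 2049), (nat_lit 2561), (nat_lit 3073), (nat_lit 4097), (nat_lit 1281), (nat_lit 2305), (nat_lit 3329), (nat_lit 205826), (nat_lit 218114), (nat_lit 228866), (nat_lit 259586), (nat_lit 271106), (nat_lit 0), (nat_lit 16672003), (nat_lit 15005443), (nat_lit 2357130500), (nat_lit 2714532612), (nat_lit 3118761220), (nat_lit 3558461188), (nat_lit 4051768580), (nat_lit 0), (nat_lit 350722)]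

def lm_L2 : List (ℕ × List ℕ) := [((nat_lit 0), [(nat_lit 0xbdab49ca307b9ac5a928398a418820), (nat_lit 0xbdab48c27213d09730c42a8036ace1), (nat_lit 0xbdab49ca11500cd4ade57106c09d02), (nat_lit 0xbdab48c27272c6a1198d0a4e823c05), (nat_lit 0xbdab49ca1149d8453d61135062806e), (nat_lit 0xbdab49ca30588867a5430302d438a7), (nat_lit 0xbdab4846723a8af0348c1ac41325c8), (nat_lit 0xbdab4846720242b391a643dc562843), (nat_lit 0xbdab48c253605483384078da93948b), (nat_lit 0xbdab48c25331523609c75a08a005af), (nat_lit 0xbdab494e302b0020a0696b967519e4), (nat_lit 0xbdab494e30098ee28d0a209e04b16d), (nat_lit 0xbdab4846536a165200e2504cf70d89), (nat_lit 0xbdab48465320de169c0e4958b120ca), (nat_lit 0xbdab494e111b4474142f3012e5914c), (nat_lit 0xbdab494e11411c0184ab61d427b526)])]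

def lm_D2 : List ℕ := [(nat_lit 0), (nat_lit 513), (nat_lit 1025), (nat_lit 769), (nat_lit 1281), (nat_lit 33282), (nat_lit 37890), (nat_lit 42242), (nat_lit 56834), (nat_lit 62210), (nat_lit 120322), (nat_lit 129794), (nat_lit 169986), (nat_lit 181506), (nat_lit 227330), (nat_lit 240898)]

def lm_L3 : List (ℕ × List ℕ) := [((nat_lit 0), [(nat_lit 0xbdab49ca307b9ac5a928398a418820), (nat_lit 0xad2f69ca305180e4ade1689072b064), (nat_lit 0xbda959ca3068d69230ce0a8ef12005), (nat_lit 0xad2f69ca304b0e253d65238600990d), (nat_lit 0xbda959ca30221ea699822a40b70ce1), (nat_lit 0xbdab49ca30588867a5430302d438a7), (nat_lit 0xa56f69ca30628a3311a05a1c13a44f), (nat_lit 0xa56f69ca30324286348778c45029cb), (nat_lit 0xad2d79ca300152f3b8461adaa60488), (nat_lit 0xad2d79ca303854b009cc43c89315a3), (nat_lit 0xb5eb49ca3072d0511c04484c36bd8a), (nat_lit 0xb5eb49ca3013c61700ed5158822cc9), (nat_lit 0xa56d79ca3029ccd08d0a1116c481ee),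 (nat_lit 0xa56d79ca30081842a069735e651d62), (nat_lit 0xb5e959ca30191c7404af301425b52c), (nat_lit 0xb5e959ca30434401942b61d2e79146)])]

def lm_D3 : List ℕ := [(nat_lit 0), (nat_lit 513), (nat_lit 1025), (nat_lit 769), (nat_lit 1281), (nat_lit 33282), (nat_lit 37890), (nat_lit 42242), (nat_lit 56834), (nat_lit 62210), (nat_lit 120322), (nat_lit 129794), (nat_lit 169986), (nat_lit 181506), (nat_lit 227330), (nat_lit 240898)]

def lm_L4 : List (ℕ × List ℕ) := [((nat_lit 0), [(nat_lit 0xbdab49ca307b9ac5a928398a418820), (nat_lit 0xbdab494e11411c0184ab61d427b526), (nat_lit 0xbda959ca113052f6348042dca39443), (nat_lit 0xbdab494e111b4474142f3012e5914c), (nat_lit 0xbda959ca116154b311a71bc49005c8), (nat_lit 0xbdab49ca30588867a5430302d438a7), (nat_lit 0xbda9594e3002823389cc7a1a53248b), (nat_lit 0xbda9594e303a4a80384658c81629af)]),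
  ((nat_lit 1), [(nat_lit 0xbdab49ca307b9ac5a928398a418820), (nat_lit 0xb5e9594e117888c5a5483982d1b8a0)])]

def lm_D4 : List ℕ := [(nat_lit 0), (nat_lit 513), (nat_lit 1537), (nat_lit 769), (nat_lit 1793), (nat_lit 46594), (nat_lit 52738), (nat_lit 58114), (nat_lit 0), (nat_lit 29442)]

def lm_L5 : List (ℕ × List ℕ) := [((nat_lit 0), [(nat_lit 0xbdab49ca307b9ac5a928398a418820), (nat_lit 0xbdab49ca30588867a5430302d438a7)]),
  ((nat_lit 1), [(nat_lit 0xbdab49ca307b9ac5a928398a418820), (nat_lit 0xb5e9594e117888c5a5483982d1b8a0)])]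

def lm_D5 : List ℕ := [(nat_lit 0), (nat_lit 513), (nat_lit 0), (nat_lit 14594)]

def lm_L6 : List (ℕ × List ℕ) := [((nat_lit 0), [(nat_lit 0xbdab49ca307b9ac5a928398a418820), (nat_lit 0xbdab49ca30588867a5430302d438a7), (nat_lit 0xad2f68c2726282f3384742c85025a3), (nat_lit 0xad2f68c272324ab609c01bda13a888)]),
  ((nat_lit 1), [(nat_lit 0xbdab49ca307b9ac5a928398a418820), (nat_lit 0xb5e9594e117888c5a5483982d1b8a0), (nat_lit 0x8c272ad2f65a8a67b8483b1a11a480), (nat_lit 0x84653a56d75a426789c83b0851a9a0)])]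

def lm_D6 : List ℕ := [(nat_lit 0), (nat_lit 513), (nat_lit 1537), (nat_lit 50690), (nat_lit 0), (nat_lit 23810), (nat_lit 48898), (nat_lit 3002115)]

def lm_L7 : List (ℕ × List ℕ) := [((nat_lit 0), [(nat_lit 0xbdab49ca307b9ac5a928398a418820), (nat_lit 0xbdab49ca30588867a5430302d438a7), (nat_lit 0xad2f68c2726282f3384742c85025a3), (nat_lit 0xad2f68c272324ab609c01bda13a888)]),
  ((nat_lit 1), [(nat_lit 0xbdab49ca307b9ac5a928398a418820), (nat_lit 0xb5e9594e117888c5a5483982d1b8a0)])]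

def lm_D7 : List ℕ := [(nat_lit 0), (nat_lit 513), (nat_lit 1537), (nat_lit 37378), (nat_lit 0), (nat_lit 21250)]

def lm_L8 : List (ℕ × List ℕ) := [((nat_lit 0), [(nat_lit 0xbdab49ca307b9ac5a928398a418820), (nat_lit 0xbdab494e11411c0184ab61d427b526), (nat_lit 0xbda959ca113052f6348042dca39443), (nat_lit 0xbdab494e111b4474142f3012e5914c), (nat_lit 0xbda959ca116154b311a71bc49005c8), (nat_lit 0xbdab49ca30588867a5430302d438a7), (nat_lit 0xbda9594e3002823389cc7a1a53248b), (nat_lit 0x9ca30b5e953b5c30142c5a1423112f)]),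
  ((nat_lit 1), [(nat_lit 0xbdab49ca307b9ac5a928398a418820), (nat_lit 0x84672b5e954052c1b84b3988a795a0), (nat_lit 0x94e11ad2d71a82c411af398455a5c0), (nat_lit 0xad2d78c2535b44c784a33994e41120), (nat_lit 0xa56f684672591cc794233992243540), (nat_lit 0x9ca30a56f61a4ac4348f399c15a840), (nat_lit 0x8c253bdab44154c189cb399a978480), (nat_lit 0xb5e9594e117888c5a5483982d1b8a0)]),
  ((nat_lit 2), [(nat_lit 0xbdab49ca307b9ac5a928398a418820), (nat_lit 0xbda958c272435c61a54f3b0a259020)])]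

def lm_D8 : List ℕ := [(nat_lit 0), (nat_lit 513), (nat_lit 1025), (nat_lit 769), (nat_lit 1281), (nat_lit 79362), (nat_lit 87042), (nat_lit 95234), (nat_lit 0), (nat_lit 6072579), (nat_lit 5339907), (nat_lit 309641476), (nat_lit 388949764), (nat_lit 487319812), (nat_lit 598135556), (nat_lit 732582148), (nat_lit 0), (nat_lit 2561)]

def lm_L9 : List (ℕ × List ℕ) := [((nat_lit 0), [(nat_lit 0xbdab49ca307b9ac5a928398a418820), (nat_lit 0xbdab49ca30588867a5430302d438a7)])]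

def lm_D9 : List ℕ := [(nat_lit 0), (nat_lit 513)]

def lm_L10 : List (ℕ × List ℕ) := [((nat_lit 0), [(nat_lit 0xbdab49ca307b9ac5a928398a418820), (nat_lit 0xbdab49ca30588867a5430302d438a7), (nat_lit 0xa56d78c272015483b48c58dc93044f), (nat_lit 0xa56d78c27238523011a67a04a615cb)]),
  ((nat_lit 1), [(nat_lit 0xbdab49ca307b9ac5a928398a418820), (nat_lit 0xb5e9594e117888c5a5483982d1b8a0), (nat_lit 0x9ca11bda9579526591a33b1ca40440), (nat_lit 0x94e30b5eb4785465b4833b049415c0)])]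

def lm_D10 : List ℕ := [(nat_lit 0), (nat_lit 513), (nat_lit 1537), (nat_lit 50690), (nat_lit 0), (nat_lit 23810), (nat_lit 48386), (nat_lit 3001603)]

def lm_L11 : List (ℕ × List ℕ) := [((nat_lit 2), [(nat_lit 0xbdab49ca307b9ac5a928398a418820), (nat_lit 0xbda958c272435c61a54f3b0a259020), (nat_lit 0xbdab49ca30588867a5430302d438a7), (nat_lit 0xb5eb494e116a1e92198e0a80b10ce5), (nat_lit 0xad2f68c272324ab609c01bda13a888), (nat_lit 0xa56d78c272015483b48c58dc93044f), (nat_lit 0x9ca11bda955854c7b48801849195c7), (nat_lit 0xbda958c2721904c4292b0182e7b4a7), (nat_lit 0xb5e958465373d0a130cd0a40322ce5), (nat_lit 0xa56f69ca30628a3311a05a1c13a44f), (nat_lit 0xb5eb494e1120d6a6b0c22a4ef72001), (nat_lit 0xa56f684653280ce0bd692090c51c6d), (nat_lit 0x94e30b5e9521cc96bd6e2a86c10101), (nat_lit 0xad2d7846535300448d05135e70996e), (nat_lit 0xb5e958465312c69719842a8e86bc01), (nat_lit 0xa56d794e114980252de5239070b06d)]),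
  ((nat_lit 0), [(nat_lit 0xbdab49ca307b9ac5a928398a418820), (nat_lit 0x8c272b5eb43b9ab014261bd2460948), (nat_lit 0x9ca30bdab43388b6292743c2d008a3), (nat_lit 0x94e30ad2f6339a3604a07a1443892b), (nat_lit 0xad2d7846721b9a04254f61c24588a6), (nat_lit 0xad2f694e304388c184af0192d58947), (nat_lit 0xb5eb48c2727b8805942331d4d4092c), (nat_lit 0x9ca11a56d7639a8304a758d440092f)]),
  ((nat_lit 1), [(nat_lit 0xbdab49ca307b9ac5a928398a418820), (nat_lit 0xa56d79ca111b886404ab3b12d78940)])]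

def lm_D11 : List ℕ := [(nat_lit 0), (nat_lit 513), (nat_lit 1025), (nat_lit 2049), (nat_lit 2561), (nat_lit 3585), (nat_lit 4097), (nat_lit 164866), (nat_lit 176130), (nat_lit 187906), (nat_lit 216066), (nat_lit 248322), (nat_lit 261122), (nat_lit 273922), (nat_lit 378882), (nat_lit 420354), (nat_lit 0), (nat_lit 22371075), (nat_lit 3073), (nat_lit 21125379), (nat_lit 2625133316), (nat_lit 801794), (nat_lit 3326397188), (nat_lit 3926137604), (nat_lit 0), (nat_lit 68882691)]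

def lm_L12 : List (ℕ × List ℕ) := [((nat_lit 0), [(nat_lit 0xbdab49ca307b9ac5a928398a418820), (nat_lit 0xbdab49ca30588867a5430302d438a7), (nat_lit 0xb5e958c27222161680ee494cf10d8a), (nat_lit 0xb5e958c27268de521c025058b720c9)])]

def lm_D12 : List ℕ := [(nat_lit 0), (nat_lit 513), (nat_lit 1025), (nat_lit 25602)]

def lm_L13 : List (ℕ × List ℕ) := [((nat_lit 0), [(nat_lit 0xbdab49ca307b9ac5a928398a418820), (nat_lit 0xbdab49ca30588867a5430302d438a7), (nat_lit 0xbda9594e1173c65100e4485886acca), (nat_lit 0xbda9594e1112d0171c0d514c323d89)])]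

def lm_D13 : List ℕ := [(nat_lit 0), (nat_lit 513), (nat_lit 1025), (nat_lit 25602)]

def lm_L14 : List (ℕ × List ℕ) := [((nat_lit 0), [(nat_lit 0xbdab49ca307b9ac5a928398a418820), (nat_lit 0xbdab49ca30588867a5430302d438a7)]),
  ((nat_lit 2), [(nat_lit 0xbdab49ca307b9ac5a928398a418820), (nat_lit 0xbda958c272435c61a54f3b0a259020)])]

def lm_D14 : List ℕ := [(nat_lit 0), (nat_lit 513), (nat_lit 0), (nat_lit 1025)]

def lm : PM :=
  ⟨(nat_lit 24), (nat_lit 5), [(nat_lit 0xbdab48c27213d09730c42a8036ace1), (nat_lit 0xbdab49ca11500cd4ade57106c09d02), (nat_lit 0x9ca30bdab43388b6292743c2d008a3), (nat_lit 0xad2f69ca305180e4ade1689072b064), (nat_lit 0xbda959ca3068d69230ce0a8ef12005), (nat_lit 0xbdab494e11411c0184ab61d427b526), (nat_lit 0xb5e959ca30434401942b61d2e79146), (nat_lit 0xb5e9594e115b9a67a923030a440827), (nat_lit 0xbdab49ca30588867a5430302d438a7)],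
    [[.l 1, .l 2, .l 3, .l 4, .l 5, .l 6, .l 7, .l 8, .l 9],
    [.l 1, .l 2, .l 3, .l 4, .l 5, .l 6, .l 7, .l 8],
    [.l 1, .l 2],
    [.l 4, .l 5],
    [.l 6, .l 7, .mul (.l 2) (.l 5)],
    [.l 9, .l 8],
    [.l 9, .l 8, .mul (.l 1) (.l 4), .l 3],
    [.l 9, .l 8, .mul (.l 1) (.l 4)],
    [.l 6, .mul (.l 2) (.l 5), .mul (.l 1) (.l 4), .l 3, .mul (.l 1) (.l 5)],
    [.l 9],
    [.l 9, .l 8, .mul (.mul (.l 7) (.l 1)) (.l 4), .mul (.mul (.l 2) (.l 5)) (.l 3)],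
    [.mul (.l 1) (.l 5), .l 9, .l 8, .mul (.l 8) (.l 5), .mul (.mul (.l 9) (.l 1)) (.l 4), .l 3, .mul (.mul (.l 7) (.l 1)) (.l 4), .mul (.mul (.l 2) (.l 5)) (.l 3)],
    [.l 9, .mul (.l 1) (.l 7)],
    [.l 9, .mul (.l 6) (.l 5)],
    [.l 9, .mul (.l 1) (.l 5)]],
    [lm_L0, lm_L1, lm_L2, lm_L3, lm_L4, lm_L5, lm_L6, lm_L7, lm_L8, lm_L9, lm_L10, lm_L11, lm_L12, lm_L13, lm_L14], [lm_D0, lm_D1, lm_D2, lm_D3, lm_D4, lm_D5, lm_D6, lm_D7, lm_D8, lm_D9, lm_D10, lm_D11, lm_D12, lm_D13, lm_D14]⟩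

instance lm_ne : NeZero lm.n := ⟨by decide⟩

theorem lm_ok0 : lm.ok0 = true := by decide +kernel

theorem lm_k0 : allFrom (nat_lit 0) (nat_lit 1) lm.okK = true := by decide +kernel

theorem lm_k1 : allFrom (nat_lit 1) (nat_lit 1) lm.okK = true := by decide +kernel

theorem lm_k2 : allFrom (nat_lit 2) (nat_lit 1) lm.okK = true := by decide +kernel

theorem lm_k3 : allFrom (nat_lit 3) (nat_lit 1) lm.okK = true := by decide +kernel

theorem lm_k4 : allFrom (nat_lit 4) (nat_lit 1) lm.okK = true := by decide +kernel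

theorem lm_k5 : allFrom (nat_lit 5) (nat_lit 1) lm.okK = true := by decide +kernel

theorem lm_k6 : allFrom (nat_lit 6) (nat_lit 1) lm.okK = true := by decide +kernel

theorem lm_k7 : allFrom (nat_lit 7) (nat_lit 1) lm.okK = true := by decide +kernel

theorem lm_k8 : allFrom (nat_lit 8) (nat_lit 1) lm.okK = true := by decide +kernel

theorem lm_k9 : allFrom (nat_lit 9) (nat_lit 1) lm.okK = true := by decide +kernel

theorem lm_k10 : allFrom (nat_lit 10) (nat_lit 1) lm.okK = true := by decide +kernel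

theorem lm_k11 : allFrom (nat_lit 11) (nat_lit 1) lm.okK = true := by decide +kernel

theorem lm_k12 : allFrom (nat_lit 12) (nat_lit 1) lm.okK = true := by decide +kernel

theorem lm_k13 : allFrom (nat_lit 13) (nat_lit 1) lm.okK = true := by decide +kernel

theorem lm_k14 : allFrom (nat_lit 14) (nat_lit 1) lm.okK = true := by decide +kernel

theorem lm_ok : lm.OK := PM.OK.of_check lm_ok0
  (of_allFrom_append (of_allFrom_append (of_allFrom_append (of_allFrom_append (of_allFrom_append (of_allFrom_append (of_allFrom_append (of_allFrom_append (of_allFrom_append (of_allFrom_append (of_allFrom_append (of_allFrom_append (of_allFrom_append (of_allFrom_append (of_allFrom_append of_lt_zero lm_k0) lm_k1) lm_k2) lm_k3) lm_k4) lm_k5) lm_k6) lm_k7) lm_k8) lm_k9) lm_k10) lm_k11) lm_k12) lm_k13) lm_k14)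

theorem lm_card0 : Nat.card (genW lm.gam (lm.ws 0)) = 256 := (lm_ok.card 0).trans (by decide +kernel)

theorem lm_card1 : Nat.card (genW lm.gam (lm.ws 1)) = 256 := (lm_ok.card 1).trans (by decide +kernel)

theorem lm_card2 : Nat.card (genW lm.gam (lm.ws 2)) = 16 := (lm_ok.card 2).trans (by decide +kernel)

theorem lm_card3 : Nat.card (genW lm.gam (lm.ws 3)) = 16 := (lm_ok.card 3).trans (by decide +kernel)

theorem lm_card4 : Nat.card (genW lm.gam (lm.ws 4)) = 16 := (lm_ok.card 4).trans (by decide +kernel)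

theorem lm_card5 : Nat.card (genW lm.gam (lm.ws 5)) = 4 := (lm_ok.card 5).trans (by decide +kernel)

theorem lm_card6 : Nat.card (genW lm.gam (lm.ws 6)) = 16 := (lm_ok.card 6).trans (by decide +kernel)

theorem lm_card7 : Nat.card (genW lm.gam (lm.ws 7)) = 8 := (lm_ok.card 7).trans (by decide +kernel)

theorem lm_card8 : Nat.card (genW lm.gam (lm.ws 8)) = 128 := (lm_ok.card 8).trans (by decide +kernel)

theorem lm_card9 : Nat.card (genW lm.gam (lm.ws 9)) = 2 := (lm_ok.card 9).trans (by decide +kernel)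

theorem lm_card10 : Nat.card (genW lm.gam (lm.ws 10)) = 16 := (lm_ok.card 10).trans (by decide +kernel)

theorem lm_card11 : Nat.card (genW lm.gam (lm.ws 11)) = 256 := (lm_ok.card 11).trans (by decide +kernel)

theorem lm_card12 : Nat.card (genW lm.gam (lm.ws 12)) = 4 := (lm_ok.card 12).trans (by decide +kernel)

theorem lm_card13 : Nat.card (genW lm.gam (lm.ws 13)) = 4 := (lm_ok.card 13).trans (by decide +kernel)

theorem lm_card14 : Nat.card (genW lm.gam (lm.ws 14)) = 4 := (lm_ok.card 14).trans (by decide +kernel)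

theorem lm_T1 {G : Type*} [Group G] {γ : ℕ → G} (g : Gf lm γ 0 []) :
    ∀ g ∈ genW γ (lm.ws 0), g * g = γ 9 → g ∈ genW γ (lm.ws 2) ∨ g ∈ genW γ (lm.ws 3) ∨ g ∈ genW γ (lm.ws 4) ∧ g ≠ γ 8 ∧ g ≠ γ 8 * γ 9 :=
  g.tr (φ := .all 0 40 [] (.imp (.eq (.mul (.l 40) (.l 40)) (.l 9)) (.or (.mem 2 (.l 40)) (.or (.mem 3 (.l 40)) (.and (.mem 4 (.l 40)) (.and (.not (.eq (.l 40) (.l 8))) (.not (.eq (.l 40) (.mul (.l 8) (.l 9)))))))))) (by decide +kernel)

theorem lm_T2 {G : Type*} [Group G] {γ : ℕ → G} (g : Gf lm γ 0 []) :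
    ∀ g ∈ genW γ (lm.ws 0), g * g = 1 → g ∈ genW γ (lm.ws 2) ∨ g ∈ genW γ (lm.ws 3) ∨ g ∈ genW γ (lm.ws 4) ∧ g ≠ γ 8 ∧ g ≠ γ 8 * γ 9 → g ∈ genW γ (lm.ws 9) :=
  g.tr (φ := .all 0 40 [] (.imp (.one (.mul (.l 40) (.l 40))) (.imp (.or (.mem 2 (.l 40)) (.or (.mem 3 (.l 40)) (.and (.mem 4 (.l 40)) (.and (.not (.eq (.l 40) (.l 8))) (.not (.eq (.l 40) (.mul (.l 8) (.l 9)))))))) (.mem 9 (.l 40))))) (by decide +kernel)

theorem lm_Z {G : Type*} [Group G] {γ : ℕ → G} (g : Gf lm γ 0 []) :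
    ∀ g ∈ genW γ (lm.ws 9), g = 1 ∨ g = γ 9 :=
  g.tr (φ := .all 9 40 [] (.or (.one (.l 40)) (.eq (.l 40) (.l 9)))) (by decide +kernel)

theorem lm_zS {G : Type*} [Group G] {γ : ℕ → G} (g : Gf lm γ 0 []) :
    ∀ g ∈ genW γ (lm.ws 0), g * γ 1 = γ 1 * g → g * γ 2 = γ 2 * g → g * γ 3 = γ 3 * g → g = 1 ∨ g = γ 9 :=
  g.tr (φ := .all 0 40 [(.l 1, .l 1), (.l 2, .l 2), (.l 3, .l 3)] (.or (.one (.l 40)) (.eq (.l 40) (.l 9)))) (by decide +kernel)

theorem lm_A2 {G : Type*} [Group G] {γ : ℕ → G} (g : Gf lm γ 0 []) :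
    ∀ g ∈ genW γ (lm.ws 6), g * g = 1 :=
  g.tr (φ := .all 6 40 [] (.one (.mul (.l 40) (.l 40)))) (by decide +kernel)

theorem lm_p4 {G : Type*} [Group G] {γ : ℕ → G} (g : Gf lm γ 0 []) :
    ∀ g ∈ genW γ (lm.ws 0), g * g * (g * g) ∈ genW γ (lm.ws 5) :=
  g.tr (φ := .all 0 40 [] (.mem 5 (.mul (.mul (.l 40) (.l 40)) (.mul (.l 40) (.l 40))))) (by decide +kernel)

theorem lm_U {G : Type*} [Group G] {γ : ℕ → G} (g : Gf lm γ 0 []) :
    ∀ g ∈ genW γ (lm.ws 5), g = 1 ∨ g = γ 9 ∨ g = γ 8 ∨ g = γ 8 * γ 9 :=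
  g.tr (φ := .all 5 40 [] (.or (.one (.l 40)) (.or (.eq (.l 40) (.l 9)) (.or (.eq (.l 40) (.l 8)) (.eq (.l 40) (.mul (.l 8) (.l 9))))))) (by decide +kernel)

theorem lm_AE {G : Type*} [Group G] {γ : ℕ → G} (g : Gf lm γ 0 []) :
    ∀ g ∈ genW γ (lm.ws 6), g ∈ genW γ (lm.ws 7) ∨ (∃ s ∈ genW γ (lm.ws 0), s * g = γ 3 * s ∧ True) :=
  g.tr (φ := .all 6 40 [] (.or (.mem 7 (.l 40)) (.ex 0 41 [(.l 40, .l 3)] (.tt)))) (by decide +kernel)

theorem lm_EU {G : Type*} [Group G] {γ : ℕ → G} (g : Gf lm γ 0 []) :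
    ∀ g ∈ genW γ (lm.ws 7), g ∈ genW γ (lm.ws 5) ∨ (∃ s ∈ genW γ (lm.ws 0), s * g = γ 1 * γ 4 * s ∧ True) :=
  g.tr (φ := .all 7 40 [] (.or (.mem 5 (.l 40)) (.ex 0 41 [(.l 40, .mul (.l 1) (.l 4))] (.tt)))) (by decide +kernel)

theorem lm_inv {G : Type*} [Group G] {γ : ℕ → G} (g : Gf lm γ 0 []) :
    ∀ t ∈ genW γ (lm.ws 0), t * t = 1 → t ∈ genW γ (lm.ws 6) ∨ t ∈ genW γ (lm.ws 10) ∨ (∃ r ∈ genW γ (lm.ws 0), r * t = t * r ∧ r * r = γ 9) :=
  g.tr (φ := .all 0 40 [] (.imp (.one (.mul (.l 40) (.l 40))) (.or (.mem 6 (.l 40)) (.or (.mem 10 (.l 40)) (.ex 0 41 [(.l 40, .l 40)] (.eq (.mul (.l 41) (.l 41)) (.l 9))))))) (by decide +kernel)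

theorem lm_r1 {G : Type*} [Group G] {γ : ℕ → G} (g : Gf lm γ 0 []) :
    ∃ r ∈ genW γ (lm.ws 0), r * (γ 1 * γ 7) = γ 1 * γ 7 * r ∧ r * r * (r * r) = γ 9 :=
  g.tr (φ := .ex 0 40 [(.mul (.l 1) (.l 7), .mul (.l 1) (.l 7))] (.eq (.mul (.mul (.l 40) (.l 40)) (.mul (.l 40) (.l 40))) (.l 9))) (by decide +kernel)

theorem lm_r2 {G : Type*} [Group G] {γ : ℕ → G} (g : Gf lm γ 0 []) :
    ∃ r ∈ genW γ (lm.ws 0), r * (γ 6 * γ 5) = γ 6 * γ 5 * r ∧ r * r * (r * r) = γ 9 :=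
  g.tr (φ := .ex 0 40 [(.mul (.l 6) (.l 5), .mul (.l 6) (.l 5))] (.eq (.mul (.mul (.l 40) (.l 40)) (.mul (.l 40) (.l 40))) (.l 9))) (by decide +kernel)

theorem lm_r3 {G : Type*} [Group G] {γ : ℕ → G} (g : Gf lm γ 0 []) :
    ∃ r ∈ genW γ (lm.ws 0), r * γ 8 = γ 8 * r ∧ r * r * (r * r) = γ 9 :=
  g.tr (φ := .ex 0 40 [(.l 8, .l 8)] (.eq (.mul (.mul (.l 40) (.l 40)) (.mul (.l 40) (.l 40))) (.l 9))) (by decide +kernel)

theorem lm_sqA {G : Type*} [Group G] {γ : ℕ → G} (g : Gf lm γ 0 []) :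
    ∀ r ∈ genW γ (lm.ws 0), r * r * (r * r) = 1 → r * r ∈ genW γ (lm.ws 6) ∨ r * r ∈ genW γ (lm.ws 10) :=
  g.tr (φ := .all 0 40 [] (.imp (.one (.mul (.mul (.l 40) (.l 40)) (.mul (.l 40) (.l 40)))) (.or (.mem 6 (.mul (.l 40) (.l 40))) (.mem 10 (.mul (.l 40) (.l 40)))))) (by decide +kernel)

theorem lm_idx {G : Type*} [Group G] {γ : ℕ → G} (g : Gf lm γ 0 []) :
    ∀ g ∈ genW γ (lm.ws 0), g ∈ genW γ (lm.ws 8) ∨ γ 1 * g ∈ genW γ (lm.ws 8) :=
  g.tr (φ := .all 0 40 [] (.or (.mem 8 (.l 40)) (.mem 8 (.mul (.l 1) (.l 40))))) (by decide +kernel)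

theorem lm_cT {G : Type*} [Group G] {γ : ℕ → G} (g : Gf lm γ 0 []) :
    ∀ g ∈ genW γ (lm.ws 0), g * γ 8 = γ 8 * g → g ∈ genW γ (lm.ws 8) :=
  g.tr (φ := .all 0 40 [(.l 8, .l 8)] (.mem 8 (.l 40))) (by decide +kernel)

theorem lm_Tp {G : Type*} [Group G] {γ : ℕ → G} (g : Gf lm γ 0 []) :
    ∀ p ∈ genW γ (lm.ws 8), p * p = 1 → ∀ r ∈ genW γ (lm.ws 0), r * p = p * r → r * r * (r * r) = 1 ∨ p ∈ genW γ (lm.ws 5) :=
  g.tr (φ := .all 8 40 [] (.imp (.one (.mul (.l 40) (.l 40))) (.all 0 41 [(.l 40, .l 40)] (.or (.one (.mul (.mul (.l 41) (.l 41)) (.mul (.l 41) (.l 41)))) (.mem 5 (.l 40)))))) (by decide +kernel)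

theorem lm_conn {G : Type*} [Group G] {γ : ℕ → G} (g : Gf lm γ 0 []) :
    ∀ t ∈ genW γ (lm.ws 0), t * t = 1 → t ∈ genW γ (lm.ws 8) ∨ (∃ r ∈ genW γ (lm.ws 8), r * t = t * r ∧ r * r = 1 ∧ r ≠ 1 ∧ r ≠ γ 9) :=
  g.tr (φ := .all 0 40 [] (.imp (.one (.mul (.l 40) (.l 40))) (.or (.mem 8 (.l 40)) (.ex 8 41 [(.l 40, .l 40)] (.and (.one (.mul (.l 41) (.l 41))) (.and (.not (.one (.l 41))) (.not (.eq (.l 41) (.l 9))))))))) (by decide +kernel)

theorem lm_Y1 {G : Type*} [Group G] {γ : ℕ → G} (g : Gf lm γ 0 []) :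
    ∀ g ∈ genW γ (lm.ws 0), g * (γ 1 * γ 7) = γ 1 * γ 7 * g → g * g = 1 → g ∈ genW γ (lm.ws 12) ∨ (∀ h ∈ genW γ (lm.ws 0), h * (γ 1 * γ 7) = γ 1 * γ 7 * h → h * g = g * h → h * h = 1 → h ∈ genW γ (lm.ws 12) ∨ g * h ∈ genW γ (lm.ws 12)) :=
  g.tr (φ := .all 0 40 [(.mul (.l 1) (.l 7), .mul (.l 1) (.l 7))] (.imp (.one (.mul (.l 40) (.l 40))) (.or (.mem 12 (.l 40)) (.all 0 41 [(.mul (.l 1) (.l 7), .mul (.l 1) (.l 7)), (.l 40, .l 40)] (.imp (.one (.mul (.l 41) (.l 41))) (.or (.mem 12 (.l 41)) (.mem 12 (.mul (.l 40) (.l 41))))))))) (by decide +kernel)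

theorem lm_Y2 {G : Type*} [Group G] {γ : ℕ → G} (g : Gf lm γ 0 []) :
    ∀ g ∈ genW γ (lm.ws 0), g * (γ 6 * γ 5) = γ 6 * γ 5 * g → g * g = 1 → g ∈ genW γ (lm.ws 13) ∨ (∀ h ∈ genW γ (lm.ws 0), h * (γ 6 * γ 5) = γ 6 * γ 5 * h → h * g = g * h → h * h = 1 → h ∈ genW γ (lm.ws 13) ∨ g * h ∈ genW γ (lm.ws 13)) :=
  g.tr (φ := .all 0 40 [(.mul (.l 6) (.l 5), .mul (.l 6) (.l 5))] (.imp (.one (.mul (.l 40) (.l 40))) (.or (.mem 13 (.l 40)) (.all 0 41 [(.mul (.l 6) (.l 5), .mul (.l 6) (.l 5)), (.l 40, .l 40)] (.imp (.one (.mul (.l 41) (.l 41))) (.or (.mem 13 (.l 41)) (.mem 13 (.mul (.l 40) (.l 41))))))))) (by decide +kernel)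

theorem lm_Y3 {G : Type*} [Group G] {γ : ℕ → G} (g : Gf lm γ 0 []) :
    ∀ g ∈ genW γ (lm.ws 0), g * (γ 1 * γ 5) = γ 1 * γ 5 * g → g * g = 1 → g ∈ genW γ (lm.ws 14) ∨ (∀ h ∈ genW γ (lm.ws 0), h * (γ 1 * γ 5) = γ 1 * γ 5 * h → h * g = g * h → h * h = 1 → h ∈ genW γ (lm.ws 14) ∨ g * h ∈ genW γ (lm.ws 14)) :=
  g.tr (φ := .all 0 40 [(.mul (.l 1) (.l 5), .mul (.l 1) (.l 5))] (.imp (.one (.mul (.l 40) (.l 40))) (.or (.mem 14 (.l 40)) (.all 0 41 [(.mul (.l 1) (.l 5), .mul (.l 1) (.l 5)), (.l 40, .l 40)] (.imp (.one (.mul (.l 41) (.l 41))) (.or (.mem 14 (.l 41)) (.mem 14 (.mul (.l 40) (.l 41))))))))) (by decide +kernel)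

theorem lm_Y {G : Type*} [Group G] {γ : ℕ → G} (g : Gf lm γ 0 []) :
    ∀ p ∈ genW γ (lm.ws 0), p * p = 1 → p ∈ genW γ (lm.ws 6) ∨ p ∈ genW γ (lm.ws 10) ∨ (∃ s ∈ genW γ (lm.ws 0), s * p = γ 1 * γ 7 * s ∧ True) ∨ (∃ s ∈ genW γ (lm.ws 0), s * p = γ 6 * γ 5 * s ∧ True) ∨ (∃ s ∈ genW γ (lm.ws 0), s * p = γ 1 * γ 5 * s ∧ True) :=
  g.tr (φ := .all 0 40 [] (.imp (.one (.mul (.l 40) (.l 40))) (.or (.mem 6 (.l 40)) (.or (.mem 10 (.l 40)) (.or (.ex 0 41 [(.l 40, .mul (.l 1) (.l 7))] (.tt)) (.or (.ex 0 41 [(.l 40, .mul (.l 6) (.l 5))] (.tt)) (.ex 0 41 [(.l 40, .mul (.l 1) (.l 5))] (.tt)))))))) (by decide +kernel)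

end Cfsg.Lib.DW
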