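import Cfsg.Agent.Lib.T3.Fac
import Cfsg.Agent.Lib.T3.Hlp

/-! The group `D8 ≀ 2`: letters `b x w c y a v u` (generated). -/

set_option autoImplicit false
set_option maxRecDepth 100000

namespace Cfsg.Lib.DW

open Cfsg.Lib.Calc Cfsg.Lib.T2 Cfsg.Lib.T3 Cfsg.Lib.Grp Subgroup

def dm_L0 : List (ℕ × List ℕ) := [((nat_lit 0), [(nat_lit 16434824), (nat_lit 16433690), (nat_lit 16434817), (nat_lit 6852524), (nat_lit 6851390), (nat_lit 16433235), (nat_lit 6852517), (nat_lit 6850935)]),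
  ((nat_lit 4), [(nat_lit 16434824), (nat_lit 11789960), (nat_lit 16406152), (nat_lit 11761288)]),
  ((nat_lit 2), [(nat_lit 16434824), (nat_lit 16434376)]),
  ((nat_lit 6), [(nat_lit 16434824), (nat_lit 14599816)])]

def dm_D0 : List ℕ := [(nat_lit 0), (nat_lit 513), (nat_lit 1025), (nat_lit 1537), (nat_lit 134658), (nat_lit 146434), (nat_lit 170498), (nat_lit 216578), (nat_lit 0), (nat_lit 2049), (nat_lit 2561), (nat_lit 391170), (nat_lit 0), (nat_lit 141058), (nat_lit 0), (nat_lit 21366019)]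

def dm_L1 : List (ℕ × List ℕ) := [((nat_lit 0), [(nat_lit 16434824), (nat_lit 16434369), (nat_lit 16433690), (nat_lit 16433235)]),
  ((nat_lit 4), [(nat_lit 16434824), (nat_lit 14571144), (nat_lit 11789960), (nat_lit 9926280)])]

def dm_D1 : List ℕ := [(nat_lit 0), (nat_lit 513), (nat_lit 1025), (nat_lit 50178), (nat_lit 0), (nat_lit 1537), (nat_lit 2049), (nat_lit 124930)]

def dm_L2 : List (ℕ × List ℕ) := [((nat_lit 0), [(nat_lit 16434824), (nat_lit 16434369)]),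
  ((nat_lit 2), [(nat_lit 16434824), (nat_lit 16434376)]),
  ((nat_lit 4), [(nat_lit 16434824), (nat_lit 14571144)]),
  ((nat_lit 6), [(nat_lit 16434824), (nat_lit 14599816)])]

def dm_D2 : List ℕ := [(nat_lit 0), (nat_lit 513), (nat_lit 0), (nat_lit 19714), (nat_lit 0), (nat_lit 1537), (nat_lit 0), (nat_lit 54530)]

def dm_L3 : List (ℕ × List ℕ) := [((nat_lit 0), [(nat_lit 16434824), (nat_lit 16433690), (nat_lit 16434817), (nat_lit 16433683)]),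
  ((nat_lit 4), [(nat_lit 16434824), (nat_lit 11789960), (nat_lit 16406152), (nat_lit 11761288)]),
  ((nat_lit 2), [(nat_lit 16434824), (nat_lit 16434376)]),
  ((nat_lit 6), [(nat_lit 16434824), (nat_lit 14599816)])]

def dm_D3 : List ℕ := [(nat_lit 0), (nat_lit 513), (nat_lit 1025), (nat_lit 57858), (nat_lit 0), (nat_lit 1537), (nat_lit 2049), (nat_lit 136706), (nat_lit 0), (nat_lit 2440451), (nat_lit 0), (nat_lit 5313795)]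

def dm_L4 : List (ℕ × List ℕ) := [((nat_lit 0), [(nat_lit 16434824), (nat_lit 16434369), (nat_lit 11788826), (nat_lit 6852524), (nat_lit 11788371), (nat_lit 6852069), (nat_lit 2206526), (nat_lit 2206071)]),
  ((nat_lit 2), [(nat_lit 16434824), (nat_lit 16405704)]),
  ((nat_lit 4), [(nat_lit 16434824), (nat_lit 14571144)])]

def dm_D4 : List ℕ := [(nat_lit 0), (nat_lit 513), (nat_lit 1537), (nat_lit 2049), (nat_lit 56834), (nat_lit 63490), (nat_lit 80898), (nat_lit 112642), (nat_lit 0), (nat_lit 32002), (nat_lit 0), (nat_lit 118619396)]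

def dm_L5 : List (ℕ × List ℕ) := [((nat_lit 0), [(nat_lit 16434824), (nat_lit 14570689), (nat_lit 11788826), (nat_lit 6852524), (nat_lit 9924691), (nat_lit 4988389), (nat_lit 2206526), (nat_lit 342391)])]

def dm_D5 : List ℕ := [(nat_lit 0), (nat_lit 513), (nat_lit 1025), (nat_lit 1537), (nat_lit 41986), (nat_lit 47618), (nat_lit 62978), (nat_lit 91650)]

def dm_L6 : List (ℕ × List ℕ) := [((nat_lit 0), [(nat_lit 16434824), (nat_lit 16434369), (nat_lit 16433690), (nat_lit 16433235)])]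

def dm_D6 : List ℕ := [(nat_lit 0), (nat_lit 513), (nat_lit 1025), (nat_lit 25602)]

def dm_L7 : List (ℕ × List ℕ) := [((nat_lit 0), [(nat_lit 16434824), (nat_lit 16433690), (nat_lit 16434817), (nat_lit 16433683)]),
  ((nat_lit 2), [(nat_lit 16434824), (nat_lit 16434376)])]

def dm_D7 : List ℕ := [(nat_lit 0), (nat_lit 513), (nat_lit 1025), (nat_lit 31234), (nat_lit 0), (nat_lit 542979)]

def dm_L8 : List (ℕ × List ℕ) := [((nat_lit 4), [(nat_lit 16434824), (nat_lit 11789960), (nat_lit 16406152), (nat_lit 11761288)]),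
  ((nat_lit 6), [(nat_lit 16434824), (nat_lit 14599816)])]

def dm_D8 : List ℕ := [(nat_lit 0), (nat_lit 513), (nat_lit 1025), (nat_lit 31234), (nat_lit 0), (nat_lit 542979)]

def dm_L9 : List (ℕ × List ℕ) := [((nat_lit 0), [(nat_lit 16434824), (nat_lit 16434369)]),
  ((nat_lit 4), [(nat_lit 16434824), (nat_lit 14571144)]),
  ((nat_lit 2), [(nat_lit 16434824), (nat_lit 14599368)])]

def dm_D9 : List ℕ := [(nat_lit 0), (nat_lit 513), (nat_lit 0), (nat_lit 1025), (nat_lit 0), (nat_lit 552195)]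

def dm_L10 : List (ℕ × List ℕ) := [((nat_lit 0), [(nat_lit 16434824), (nat_lit 16434369), (nat_lit 16433690), (nat_lit 16433235)]),
  ((nat_lit 4), [(nat_lit 16434824), (nat_lit 11789960), (nat_lit 16406152), (nat_lit 11761288)]),
  ((nat_lit 6), [(nat_lit 16434824), (nat_lit 14599816)])]

def dm_D10 : List ℕ := [(nat_lit 0), (nat_lit 513), (nat_lit 1025), (nat_lit 50178), (nat_lit 0), (nat_lit 1537), (nat_lit 2049), (nat_lit 136706), (nat_lit 0), (nat_lit 4076803)]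

def dm_L11 : List (ℕ × List ℕ) := [((nat_lit 4), [(nat_lit 16434824), (nat_lit 14571144), (nat_lit 11789960), (nat_lit 9926280)])]

def dm_D11 : List ℕ := [(nat_lit 0), (nat_lit 513), (nat_lit 1025), (nat_lit 25602)]

def dm_L12 : List (ℕ × List ℕ) := [((nat_lit 0), [(nat_lit 16434824), (nat_lit 14570689), (nat_lit 11788826), (nat_lit 9924691)])]

def dm_D12 : List ℕ := [(nat_lit 0), (nat_lit 513), (nat_lit 1025), (nat_lit 25602)]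

def dm_L13 : List (ℕ × List ℕ) := [((nat_lit 0), [(nat_lit 16434824), (nat_lit 16434369)]),
  ((nat_lit 4), [(nat_lit 16434824), (nat_lit 14571144)])]

def dm_D13 : List ℕ := [(nat_lit 0), (nat_lit 513), (nat_lit 0), (nat_lit 1025)]

def dm_L14 : List (ℕ × List ℕ) := [((nat_lit 0), [(nat_lit 16434824), (nat_lit 14570689)])]

def dm_D14 : List ℕ := [(nat_lit 0), (nat_lit 513)]

def dm_L15 : List (ℕ × List ℕ) := [((nat_lit 0), [(nat_lit 16434824), (nat_lit 16434369), (nat_lit 11788826), (nat_lit 11788371)]),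
  ((nat_lit 4), [(nat_lit 16434824), (nat_lit 14571144)])]

def dm_D15 : List ℕ := [(nat_lit 0), (nat_lit 513), (nat_lit 1537), (nat_lit 37378), (nat_lit 0), (nat_lit 1025)]

def dm : PM :=
  ⟨(nat_lit 8), (nat_lit 3), [(nat_lit 16433690), (nat_lit 16434817), (nat_lit 6852524), (nat_lit 11789960), (nat_lit 16406152), (nat_lit 16434369), (nat_lit 14571144), (nat_lit 14570689)],
    [[.l 1, .l 2, .l 3, .l 4, .l 5, .l 6, .l 7, .l 8],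
    [.l 6, .l 1, .l 7, .l 4],
    [.l 6, .l 2, .l 7, .l 5],
    [.l 1, .l 2, .l 4, .l 5],
    [.l 6, .mul (.l 2) (.l 5), .mul (.l 1) (.l 4), .l 3],
    [.l 8, .mul (.l 1) (.l 4), .l 3],
    [.l 6, .l 1],
    [.l 1, .l 2],
    [.l 4, .l 5],
    [.l 6, .l 7, .mul (.l 2) (.l 5)],
    [.l 6, .l 1, .l 4, .l 5],
    [.l 7, .l 4],
    [.l 8, .mul (.l 1) (.l 4)],
    [.l 6, .l 7],
    [.l 8],
    [.l 6, .l 7, .mul (.l 1) (.l 4)]],
    [dm_L0, dm_L1, dm_L2, dm_L3, dm_L4, dm_L5, dm_L6, dm_L7, dm_L8, dm_L9, dm_L10, dm_L11, dm_L12, dm_L13, dm_L14, dm_L15], [dm_D0, dm_D1, dm_D2, dm_D3, dm_D4, dm_D5, dm_D6, dm_D7, dm_D8, dm_D9, dm_D10, dm_D11, dm_D12, dm_D13, dm_D14, dm_D15]⟩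

instance dm_ne : NeZero dm.n := ⟨by decide⟩

theorem dm_ok0 : dm.ok0 = true := by decide +kernel

theorem dm_k0 : allFrom (nat_lit 0) (nat_lit 1) dm.okK = true := by decide +kernel

theorem dm_k1 : allFrom (nat_lit 1) (nat_lit 1) dm.okK = true := by decide +kernel

theorem dm_k2 : allFrom (nat_lit 2) (nat_lit 1) dm.okK = true := by decide +kernel

theorem dm_k3 : allFrom (nat_lit 3) (nat_lit 1) dm.okK = true := by decide +kernel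

theorem dm_k4 : allFrom (nat_lit 4) (nat_lit 1) dm.okK = true := by decide +kernel

theorem dm_k5 : allFrom (nat_lit 5) (nat_lit 1) dm.okK = true := by decide +kernel

theorem dm_k6 : allFrom (nat_lit 6) (nat_lit 1) dm.okK = true := by decide +kernel

theorem dm_k7 : allFrom (nat_lit 7) (nat_lit 1) dm.okK = true := by decide +kernel

theorem dm_k8 : allFrom (nat_lit 8) (nat_lit 1) dm.okK = true := by decide +kernel

theorem dm_k9 : allFrom (nat_lit 9) (nat_lit 1) dm.okK = true := by decide +kernel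

theorem dm_k10 : allFrom (nat_lit 10) (nat_lit 1) dm.okK = true := by decide +kernel

theorem dm_k11 : allFrom (nat_lit 11) (nat_lit 1) dm.okK = true := by decide +kernel

theorem dm_k12 : allFrom (nat_lit 12) (nat_lit 1) dm.okK = true := by decide +kernel

theorem dm_k13 : allFrom (nat_lit 13) (nat_lit 1) dm.okK = true := by decide +kernel

theorem dm_k14 : allFrom (nat_lit 14) (nat_lit 1) dm.okK = true := by decide +kernel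

theorem dm_k15 : allFrom (nat_lit 15) (nat_lit 1) dm.okK = true := by decide +kernel

theorem dm_ok : dm.OK := PM.OK.of_check dm_ok0
  (of_allFrom_append (of_allFrom_append (of_allFrom_append (of_allFrom_append (of_allFrom_append (of_allFrom_append (of_allFrom_append (of_allFrom_append (of_allFrom_append (of_allFrom_append (of_allFrom_append (of_allFrom_append (of_allFrom_append (of_allFrom_append (of_allFrom_append (of_allFrom_append of_lt_zero dm_k0) dm_k1) dm_k2) dm_k3) dm_k4) dm_k5) dm_k6) dm_k7) dm_k8) dm_k9) dm_k10) dm_k11) dm_k12) dm_k13) dm_k14) dm_k15)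

theorem dm_card0 : Nat.card (genW dm.gam (dm.ws 0)) = 128 := (dm_ok.card 0).trans (by decide +kernel)

theorem dm_card1 : Nat.card (genW dm.gam (dm.ws 1)) = 16 := (dm_ok.card 1).trans (by decide +kernel)

theorem dm_card2 : Nat.card (genW dm.gam (dm.ws 2)) = 16 := (dm_ok.card 2).trans (by decide +kernel)

theorem dm_card3 : Nat.card (genW dm.gam (dm.ws 3)) = 64 := (dm_ok.card 3).trans (by decide +kernel)

theorem dm_card4 : Nat.card (genW dm.gam (dm.ws 4)) = 32 := (dm_ok.card 4).trans (by decide +kernel)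

theorem dm_card5 : Nat.card (genW dm.gam (dm.ws 5)) = 8 := (dm_ok.card 5).trans (by decide +kernel)

theorem dm_card6 : Nat.card (genW dm.gam (dm.ws 6)) = 4 := (dm_ok.card 6).trans (by decide +kernel)

theorem dm_card7 : Nat.card (genW dm.gam (dm.ws 7)) = 8 := (dm_ok.card 7).trans (by decide +kernel)

theorem dm_card8 : Nat.card (genW dm.gam (dm.ws 8)) = 8 := (dm_ok.card 8).trans (by decide +kernel)

theorem dm_card9 : Nat.card (genW dm.gam (dm.ws 9)) = 8 := (dm_ok.card 9).trans (by decide +kernel)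

theorem dm_card10 : Nat.card (genW dm.gam (dm.ws 10)) = 32 := (dm_ok.card 10).trans (by decide +kernel)

theorem dm_card11 : Nat.card (genW dm.gam (dm.ws 11)) = 4 := (dm_ok.card 11).trans (by decide +kernel)

theorem dm_card12 : Nat.card (genW dm.gam (dm.ws 12)) = 4 := (dm_ok.card 12).trans (by decide +kernel)

theorem dm_card13 : Nat.card (genW dm.gam (dm.ws 13)) = 4 := (dm_ok.card 13).trans (by decide +kernel)

theorem dm_card14 : Nat.card (genW dm.gam (dm.ws 14)) = 2 := (dm_ok.card 14).trans (by decide +kernel)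

theorem dm_card15 : Nat.card (genW dm.gam (dm.ws 15)) = 8 := (dm_ok.card 15).trans (by decide +kernel)

/-- The involutions of type `2²`. -/
def TA {G : Type*} [Group G] (γ : ℕ → G) (p : G) : Prop :=
  p ∈ genW γ (dm.ws 7) ∨ p ∈ genW γ (dm.ws 8) ∨ p ∈ genW γ (dm.ws 9) ∧ p ≠ γ 8

theorem dm_pair {G : Type*} [Group G] {γ : ℕ → G} (g : Gf dm γ 0 []) :
    ∀ p ∈ genW γ (dm.ws 0), p * p = 1 → p ≠ 1 → TA γ p → ∀ q ∈ genW γ (dm.ws 0), q * p = p * q → q * q = 1 → q ≠ 1 → q ≠ p → TA γ q → TA γ (p * q) → p ∈ genW γ (dm.ws 2) ∧ q ∈ genW γ (dm.ws 2) ∨ p ∈ genW γ (dm.ws 6) ∧ q ∈ genW γ (dm.ws 6) ∨ p ∈ genW γ (dm.ws 11) ∧ q ∈ genW γ (dm.ws 11) :=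
  g.tr (φ := .all 0 40 [] (.imp (.one (.mul (.l 40) (.l 40))) (.imp (.not (.one (.l 40))) (.imp (.or (.mem 7 (.l 40)) (.or (.mem 8 (.l 40)) (.and (.mem 9 (.l 40)) (.not (.eq (.l 40) (.l 8)))))) (.all 0 41 [(.l 40, .l 40)] (.imp (.one (.mul (.l 41) (.l 41))) (.imp (.not (.one (.l 41))) (.imp (.not (.eq (.l 41) (.l 40))) (.imp (.or (.mem 7 (.l 41)) (.or (.mem 8 (.l 41)) (.and (.mem 9 (.l 41)) (.not (.eq (.l 41) (.l 8)))))) (.imp (.or (.mem 7 (.mul (.l 40) (.l 41))) (.or (.mem 8 (.mul (.l 40) (.l 41))) (.and (.mem 9 (.mul (.l 40) (.l 41))) (.not (.eq (.mul (.l 40) (.l 41)) (.l 8)))))) (.or (.and (.mem 2 (.l 40)) (.mem 2 (.l 41))) (.or (.and (.mem 6 (.l 40)) (.mem 6 (.l 41))) (.and (.mem 11 (.l 40)) (.mem 11 (.l 41))))))))))))))) (by decide +kernel)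

theorem dm_tri {G : Type*} [Group G] {γ : ℕ → G} (g : Gf dm γ 0 []) :
    ∀ p ∈ genW γ (dm.ws 0), p * p = 1 → p ≠ 1 → TA γ p → ∀ q ∈ genW γ (dm.ws 0), q * p = p * q → q * q = 1 → q ≠ 1 → q ≠ p → TA γ q → TA γ (p * q) → ∀ r ∈ genW γ (dm.ws 0), r * p = p * r → r * q = q * r → r * r = 1 → r ≠ 1 → r ≠ p → r ≠ q → r ≠ p * q → TA γ (p * r) → TA γ (q * r) → TA γ r → p ∈ genW γ (dm.ws 2) ∧ q ∈ genW γ (dm.ws 2) ∧ r ∈ genW γ (dm.ws 2) :=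
  g.tr (φ := .all 0 40 [] (.imp (.one (.mul (.l 40) (.l 40))) (.imp (.not (.one (.l 40))) (.imp (.or (.mem 7 (.l 40)) (.or (.mem 8 (.l 40)) (.and (.mem 9 (.l 40)) (.not (.eq (.l 40) (.l 8)))))) (.all 0 41 [(.l 40, .l 40)] (.imp (.one (.mul (.l 41) (.l 41))) (.imp (.not (.one (.l 41))) (.imp (.not (.eq (.l 41) (.l 40))) (.imp (.or (.mem 7 (.l 41)) (.or (.mem 8 (.l 41)) (.and (.mem 9 (.l 41)) (.not (.eq (.l 41) (.l 8)))))) (.imp (.or (.mem 7 (.mul (.l 40) (.l 41))) (.or (.mem 8 (.mul (.l 40) (.l 41))) (.and (.mem 9 (.mul (.l 40) (.l 41))) (.not (.eq (.mul (.l 40) (.l 41)) (.l 8)))))) (.all 0 42 [(.l 40, .l 40), (.l 41, .l 41)] (.imp (.one (.mul (.l 42) (.l 42))) (.imp (.not (.one (.l 42))) (.imp (.not (.eq (.l 42) (.l 40))) (.imp (.not (.eq (.l 42) (.l 41))) (.imp (.not (.eq (.l 42) (.mul (.l 40) (.l 41)))) (.imp (.or (.mem 7 (.mul (.l 40) (.l 42)))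 (.or (.mem 8 (.mul (.l 40) (.l 42))) (.and (.mem 9 (.mul (.l 40) (.l 42))) (.not (.eq (.mul (.l 40) (.l 42)) (.l 8)))))) (.imp (.or (.mem 7 (.mul (.l 41) (.l 42))) (.or (.mem 8 (.mul (.l 41) (.l 42))) (.and (.mem 9 (.mul (.l 41) (.l 42))) (.not (.eq (.mul (.l 41) (.l 42)) (.l 8)))))) (.imp (.or (.mem 7 (.l 42)) (.or (.mem 8 (.l 42)) (.and (.mem 9 (.l 42)) (.not (.eq (.l 42) (.l 8)))))) (.and (.mem 2 (.l 40)) (.and (.mem 2 (.l 41)) (.mem 2 (.l 42))))))))))))))))))))))) (by decide +kernel)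

theorem dm_kv {G : Type*} [Group G] {γ : ℕ → G} (g : Gf dm γ 0 []) :
    ∀ p ∈ genW γ (dm.ws 2), p ≠ 1 → TA γ p → ∀ q ∈ genW γ (dm.ws 2), q ≠ 1 → q ≠ p → TA γ q → TA γ (p * q) → ∀ r ∈ genW γ (dm.ws 0), r * p = p * r → r * q = q * r → r * r = 1 → ¬ TA γ (p * r) → ¬ TA γ (q * r) → ∀ s ∈ genW γ (dm.ws 0), s * p = p * s → s * q = q * s → s * s = 1 → ¬ TA γ (p * s) → ¬ TA γ (q * s) → r * s = s * r :=
  g.tr (φ := .all 2 40 [] (.imp (.not (.one (.l 40))) (.imp (.or (.mem 7 (.l 40)) (.or (.mem 8 (.l 40)) (.and (.mem 9 (.l 40)) (.not (.eq (.l 40) (.l 8)))))) (.all 2 41 [] (.imp (.not (.one (.l 41))) (.imp (.not (.eq (.l 41) (.l 40))) (.imp (.or (.mem 7 (.l 41)) (.or (.mem 8 (.l 41)) (.and (.mem 9 (.l 41)) (.not (.eq (.l 41) (.l 8)))))) (.imp (.or (.mem 7 (.mul (.l 40) (.l 41))) (.or (.mem 8 (.mul (.l 40) (.l 41))) (.and (.mem 9 (.mul (.l 40) (.l 41)))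 (.not (.eq (.mul (.l 40) (.l 41)) (.l 8)))))) (.all 0 42 [(.l 40, .l 40), (.l 41, .l 41)] (.imp (.one (.mul (.l 42) (.l 42))) (.imp (.not (.or (.mem 7 (.mul (.l 40) (.l 42))) (.or (.mem 8 (.mul (.l 40) (.l 42))) (.and (.mem 9 (.mul (.l 40) (.l 42))) (.not (.eq (.mul (.l 40) (.l 42)) (.l 8))))))) (.imp (.not (.or (.mem 7 (.mul (.l 41) (.l 42))) (.or (.mem 8 (.mul (.l 41) (.l 42))) (.and (.mem 9 (.mul (.l 41) (.l 42))) (.not (.eq (.mul (.l 41) (.l 42)) (.l 8))))))) (.all 0 43 [(.l 40, .l 40), (.l 41, .l 41)] (.imp (.one (.mul (.l 43) (.l 43))) (.imp (.not (.or (.mem 7 (.mul (.l 40) (.l 43))) (.or (.mem 8 (.mul (.l 40) (.l 43))) (.and (.mem 9 (.mul (.l 40) (.l 43))) (.not (.eq (.mul (.l 40) (.l 43)) (.l 8))))))) (.imp (.not (.or (.mem 7 (.mul (.l 41) (.l 43))) (.or (.mem 8 (.mul (.l 41) (.l 43))) (.and (.mem 9 (.mul (.l 41) (.l 43))) (.not (.eq (.mul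 (.l 41) (.l 43)) (.l 8))))))) (.eq (.mul (.l 42) (.l 43)) (.mul (.l 43) (.l 42))))))))))))))))))) (by decide +kernel)

theorem dm_cR {G : Type*} [Group G] {γ : ℕ → G} (g : Gf dm γ 0 []) :
    ∀ g ∈ genW γ (dm.ws 0), g * γ 6 = γ 6 * g → g * γ 1 = γ 1 * g → g ∈ genW γ (dm.ws 10) :=
  g.tr (φ := .all 0 40 [(.l 6, .l 6), (.l 1, .l 1)] (.mem 10 (.l 40))) (by decide +kernel)

theorem dm_RD {G : Type*} [Group G] {γ : ℕ → G} (g : Gf dm γ 0 []) :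
    ∀ g ∈ genW γ (dm.ws 10), g * g = 1 → TA γ g → g ∈ genW γ (dm.ws 6) ∨ g ∈ genW γ (dm.ws 8) :=
  g.tr (φ := .all 10 40 [] (.imp (.one (.mul (.l 40) (.l 40))) (.imp (.or (.mem 7 (.l 40)) (.or (.mem 8 (.l 40)) (.and (.mem 9 (.l 40)) (.not (.eq (.l 40) (.l 8)))))) (.or (.mem 6 (.l 40)) (.mem 8 (.l 40)))))) (by decide +kernel)

theorem dm_uD {G : Type*} [Group G] {γ : ℕ → G} (g : Gf dm γ 0 []) :
    ∀ g ∈ genW γ (dm.ws 6), ∀ h ∈ genW γ (dm.ws 8), g * h = γ 8 → g = γ 6 :=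
  g.tr (φ := .all 6 40 [] (.all 8 41 [] (.imp (.eq (.mul (.l 40) (.l 41)) (.l 8)) (.eq (.l 40) (.l 6))))) (by decide +kernel)

theorem dm_xV {G : Type*} [Group G] {γ : ℕ → G} (g : Gf dm γ 0 []) :
    ∀ g ∈ genW γ (dm.ws 6), g = 1 ∨ g = γ 6 ∨ γ 2 * g * (γ 2)⁻¹ = g * γ 6 :=
  g.tr (φ := .all 6 40 [] (.or (.one (.l 40)) (.or (.eq (.l 40) (.l 6)) (.eq (.mul (.mul (.l 2) (.l 40)) (.inv (.l 2))) (.mul (.l 40) (.l 6)))))) (by decide +kernel)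

theorem dm_VE {G : Type*} [Group G] {γ : ℕ → G} (g : Gf dm γ 0 []) :
    ∀ g ∈ genW γ (dm.ws 6), g ∈ genW γ (dm.ws 2) → g = 1 ∨ g = γ 6 :=
  g.tr (φ := .all 6 40 [] (.imp (.mem 2 (.l 40)) (.or (.one (.l 40)) (.eq (.l 40) (.l 6))))) (by decide +kernel)

theorem dm_cE {G : Type*} [Group G] {γ : ℕ → G} (g : Gf dm γ 0 []) :
    ∀ g ∈ genW γ (dm.ws 2), g * γ 1 = γ 1 * g → g = 1 ∨ g = γ 6 ∨ g = γ 7 ∨ g = γ 8 ∨ γ 4 * g * (γ 4)⁻¹ = g * γ 7 :=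
  g.tr (φ := .all 2 40 [(.l 1, .l 1)] (.or (.one (.l 40)) (.or (.eq (.l 40) (.l 6)) (.or (.eq (.l 40) (.l 7)) (.or (.eq (.l 40) (.l 8)) (.eq (.mul (.mul (.l 4) (.l 40)) (.inv (.l 4))) (.mul (.l 40) (.l 7)))))))) (by decide +kernel)

theorem dm_cX {G : Type*} [Group G] {γ : ℕ → G} (g : Gf dm γ 0 []) :
    ∀ g ∈ genW γ (dm.ws 2), ∀ h ∈ genW γ (dm.ws 6), g * h ≠ h * g → TA γ g → TA γ (g * γ 7) → γ 4 * g * (γ 4)⁻¹ = g * γ 7 :=
  g.tr (φ := .all 2 40 [] (.all 6 41 [] (.imp (.not (.eq (.mul (.l 40) (.l 41)) (.mul (.l 41) (.l 40)))) (.imp (.or (.mem 7 (.l 40)) (.or (.mem 8 (.l 40)) (.and (.mem 9 (.l 40)) (.not (.eq (.l 40) (.l 8)))))) (.imp (.or (.mem 7 (.mul (.l 40) (.l 7))) (.or (.mem 8 (.mul (.l 40) (.l 7))) (.and (.mem 9 (.mul (.l 40) (.l 7))) (.not (.eq (.mul (.l 40) (.l 7)) (.l 8)))))) (.eq (.mul (.mul (.l 4) (.l 40)) (.inv (.l 4))) (.mul (.l 40)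 (.l 7)))))))) (by decide +kernel)

theorem dm_sqP {G : Type*} [Group G] {γ : ℕ → G} (g : Gf dm γ 0 []) :
    ∀ q ∈ genW γ (dm.ws 4), q * q = 1 ∨ q * q = γ 8 :=
  g.tr (φ := .all 4 40 [] (.or (.one (.mul (.l 40) (.l 40))) (.eq (.mul (.l 40) (.l 40)) (.l 8)))) (by decide +kernel)

theorem dm_cP {G : Type*} [Group G] {γ : ℕ → G} (g : Gf dm γ 0 []) :
    ∀ g ∈ genW γ (dm.ws 0), g * γ 6 = γ 6 * g → g * (γ 2 * γ 5) = γ 2 * γ 5 * g → g * (γ 1 * γ 4) = γ 1 * γ 4 * g → g * γ 3 = γ 3 * g → g = 1 ∨ g = γ 8 :=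
  g.tr (φ := .all 0 40 [(.l 6, .l 6), (.mul (.l 2) (.l 5), .mul (.l 2) (.l 5)), (.mul (.l 1) (.l 4), .mul (.l 1) (.l 4)), (.l 3, .l 3)] (.or (.one (.l 40)) (.eq (.l 40) (.l 8)))) (by decide +kernel)

theorem dm_uP {G : Type*} [Group G] {γ : ℕ → G} (g : Gf dm γ 0 []) :
    ∀ g ∈ genW γ (dm.ws 0), g * g = γ 8 → g ∈ genW γ (dm.ws 4) :=
  g.tr (φ := .all 0 40 [] (.imp (.eq (.mul (.l 40) (.l 40)) (.l 8)) (.mem 4 (.l 40)))) (by decide +kernel)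

theorem dm_tP {G : Type*} [Group G] {γ : ℕ → G} (g : Gf dm γ 0 []) :
    ∀ g ∈ genW γ (dm.ws 0), g * g = 1 → TA γ g → TA γ (g * γ 8) → g ∈ genW γ (dm.ws 9) :=
  g.tr (φ := .all 0 40 [] (.imp (.one (.mul (.l 40) (.l 40))) (.imp (.or (.mem 7 (.l 40)) (.or (.mem 8 (.l 40)) (.and (.mem 9 (.l 40)) (.not (.eq (.l 40) (.l 8)))))) (.imp (.or (.mem 7 (.mul (.l 40) (.l 8))) (.or (.mem 8 (.mul (.l 40) (.l 8))) (.and (.mem 9 (.mul (.l 40) (.l 8))) (.not (.eq (.mul (.l 40) (.l 8)) (.l 8)))))) (.mem 9 (.l 40)))))) (by decide +kernel)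

theorem dm_dP {G : Type*} [Group G] {γ : ℕ → G} (g : Gf dm γ 0 []) :
    ∀ g ∈ genW γ (dm.ws 0), g * g = 1 → ¬ TA γ g → ¬ TA γ (g * γ 8) → g ∈ genW γ (dm.ws 4) ∨ (∃ s ∈ genW γ (dm.ws 0), s * g * s⁻¹ = γ 1 * γ 5) :=
  g.tr (φ := .all 0 40 [] (.imp (.one (.mul (.l 40) (.l 40))) (.imp (.not (.or (.mem 7 (.l 40)) (.or (.mem 8 (.l 40)) (.and (.mem 9 (.l 40)) (.not (.eq (.l 40) (.l 8))))))) (.imp (.not (.or (.mem 7 (.mul (.l 40) (.l 8))) (.or (.mem 8 (.mul (.l 40) (.l 8))) (.and (.mem 9 (.mul (.l 40) (.l 8))) (.not (.eq (.mul (.l 40) (.l 8)) (.l 8))))))) (.or (.mem 4 (.l 40)) (.ex 0 41 [] (.eq (.mul (.mul (.l 41) (.l 40)) (.inv (.l 41))) (.mul (.l 1) (.l 5))))))))) (by decide +kernel)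

theorem dm_nab {G : Type*} [Group G] {γ : ℕ → G} (g : Gf dm γ 0 []) :
    ∀ q ∈ genW γ (dm.ws 4), q * q = 1 → ∃ e ∈ genW γ (dm.ws 0), e * q = q * e ∧ (∃ f ∈ genW γ (dm.ws 0), f * q = q * f ∧ e * f ≠ f * e) :=
  g.tr (φ := .all 4 40 [] (.imp (.one (.mul (.l 40) (.l 40))) (.ex 0 41 [(.l 40, .l 40)] (.ex 0 42 [(.l 40, .l 40)] (.not (.eq (.mul (.l 41) (.l 42)) (.mul (.l 42) (.l 41)))))))) (by decide +kernel)

theorem dm_dab {G : Type*} [Group G] {γ : ℕ → G} (g : Gf dm γ 0 []) :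
    ∀ r ∈ genW γ (dm.ws 0), r ∈ genW γ (dm.ws 6) ∨ r ∈ genW γ (dm.ws 11) → r ∉ genW γ (dm.ws 2) → ∀ s ∈ genW γ (dm.ws 2), s * r = r * s → s ≠ 1 → TA γ s → ¬ TA γ (s * γ 8) → ∀ e ∈ genW γ (dm.ws 0), e * (r * s) = r * s * e → ∀ f ∈ genW γ (dm.ws 0), f * (r * s) = r * s * f → e * f = f * e :=
  g.tr (φ := .all 0 40 [] (.imp (.or (.mem 6 (.l 40)) (.mem 11 (.l 40))) (.imp (.not (.mem 2 (.l 40))) (.all 2 41 [(.l 40, .l 40)] (.imp (.not (.one (.l 41))) (.imp (.or (.mem 7 (.l 41)) (.or (.mem 8 (.l 41)) (.and (.mem 9 (.l 41)) (.not (.eq (.l 41) (.l 8)))))) (.imp (.not (.or (.mem 7 (.mul (.l 41) (.l 8))) (.or (.mem 8 (.mul (.l 41) (.l 8))) (.and (.mem 9 (.mul (.l 41) (.l 8))) (.not (.eq (.mul (.l 41) (.l 8)) (.l 8))))))) (.all 0 42 [(.mul (.l 40) (.l 41), .mul (.l 40) (.l 41))] (.all 0 43 [(.mul (.l 40) (.l 41), .mul (.l 40) (.l 41))] (.eq (.mul (.l 42) (.l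 43)) (.mul (.l 43) (.l 42)))))))))))) (by decide +kernel)

theorem dm_Pt {G : Type*} [Group G] {γ : ℕ → G} (g : Gf dm γ 0 []) :
    ∀ q ∈ genW γ (dm.ws 4), q * q = 1 → q = 1 ∨ q = γ 8 ∨ TA γ q ∧ TA γ (q * γ 8) ∨ ¬ TA γ q ∧ ¬ TA γ (q * γ 8) :=
  g.tr (φ := .all 4 40 [] (.imp (.one (.mul (.l 40) (.l 40))) (.or (.one (.l 40)) (.or (.eq (.l 40) (.l 8)) (.or (.and (.or (.mem 7 (.l 40)) (.or (.mem 8 (.l 40)) (.and (.mem 9 (.l 40)) (.not (.eq (.l 40) (.l 8)))))) (.or (.mem 7 (.mul (.l 40) (.l 8))) (.or (.mem 8 (.mul (.l 40) (.l 8))) (.and (.mem 9 (.mul (.l 40) (.l 8))) (.not (.eq (.mul (.l 40) (.l 8)) (.l 8))))))) (.and (.not (.or (.mem 7 (.l 40)) (.or (.mem 8 (.l 40)) (.and (.mem 9 (.l 40)) (.not (.eq (.l 40) (.l 8))))))) (.not (.or (.mem 7 (.mul (.l 40) (.l 8))) (.or (.mem 8 (.mul (.l 40) (.l 8))) (.and (.mem 9 (.mul (.l 40) (.l 8))) (.not (.eq (.mul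 (.l 40) (.l 8)) (.l 8))))))))))))) (by decide +kernel)

theorem dm_AV {G : Type*} [Group G] {γ : ℕ → G} (g : Gf dm γ 0 []) :
    ∀ g ∈ genW γ (dm.ws 13), g = 1 ∨ g = γ 6 ∨ g = γ 7 ∨ g = γ 8 :=
  g.tr (φ := .all 13 40 [] (.or (.one (.l 40)) (.or (.eq (.l 40) (.l 6)) (.or (.eq (.l 40) (.l 7)) (.eq (.l 40) (.l 8)))))) (by decide +kernel)

theorem dm_pV {G : Type*} [Group G] {γ : ℕ → G} (g : Gf dm γ 0 []) :
    ∀ g ∈ genW γ (dm.ws 9), g ∈ genW γ (dm.ws 6) ∨ g ∈ genW γ (dm.ws 11) → g = 1 ∨ g = γ 6 ∨ g = γ 7 :=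
  g.tr (φ := .all 9 40 [] (.imp (.or (.mem 6 (.l 40)) (.mem 11 (.l 40))) (.or (.one (.l 40)) (.or (.eq (.l 40) (.l 6)) (.eq (.l 40) (.l 7)))))) (by decide +kernel)

theorem dm_cE1 {G : Type*} [Group G] {γ : ℕ → G} (g : Gf dm γ 0 []) :
    ∀ g ∈ genW γ (dm.ws 4), g * γ 6 = γ 6 * g → g * (γ 2 * γ 5) = γ 2 * γ 5 * g → g ∈ genW γ (dm.ws 9) :=
  g.tr (φ := .all 4 40 [(.l 6, .l 6), (.mul (.l 2) (.l 5), .mul (.l 2) (.l 5))] (.mem 9 (.l 40))) (by decide +kernel)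

theorem dm_cA1 {G : Type*} [Group G] {γ : ℕ → G} (g : Gf dm γ 0 []) :
    ∀ g ∈ genW γ (dm.ws 4), g * (γ 1 * γ 4) = γ 1 * γ 4 * g → g * γ 3 = γ 3 * g → g ∈ genW γ (dm.ws 5) :=
  g.tr (φ := .all 4 40 [(.mul (.l 1) (.l 4), .mul (.l 1) (.l 4)), (.l 3, .l 3)] (.mem 5 (.l 40))) (by decide +kernel)

theorem dm_E1c {G : Type*} [Group G] {γ : ℕ → G} (g : Gf dm γ 0 []) :
    ∀ g ∈ genW γ (dm.ws 9), g * (γ 1 * γ 4) = γ 1 * γ 4 * g → g = 1 ∨ g = γ 6 ∨ g = γ 7 ∨ g = γ 8 :=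
  g.tr (φ := .all 9 40 [(.mul (.l 1) (.l 4), .mul (.l 1) (.l 4))] (.or (.one (.l 40)) (.or (.eq (.l 40) (.l 6)) (.or (.eq (.l 40) (.l 7)) (.eq (.l 40) (.l 8)))))) (by decide +kernel)

theorem dm_E1s {G : Type*} [Group G] {γ : ℕ → G} (g : Gf dm γ 0 []) :
    ∀ g ∈ genW γ (dm.ws 9), g = 1 ∨ g = γ 8 ∨ (∃ s ∈ genW γ (dm.ws 0), s * γ 6 * s⁻¹ = g ∨ s * (γ 2 * γ 5) * s⁻¹ = g) :=
  g.tr (φ := .all 9 40 [] (.or (.one (.l 40)) (.or (.eq (.l 40) (.l 8)) (.ex 0 41 [] (.or (.eq (.mul (.mul (.l 41) (.l 6)) (.inv (.l 41))) (.l 40)) (.eq (.mul (.mul (.l 41) (.mul (.l 2) (.l 5))) (.inv (.l 41))) (.l 40))))))) (by decide +kernel)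

theorem dm_wb {G : Type*} [Group G] {γ : ℕ → G} (g : Gf dm γ 0 []) :
    ∀ q ∈ genW γ (dm.ws 4), q * γ 6 = γ 6 * q → q * q = 1 → ¬ TA γ q → q = γ 8 ∨ (∃ g ∈ genW γ (dm.ws 0), g * q = γ 1 * γ 4 * g ∧ True) :=
  g.tr (φ := .all 4 40 [(.l 6, .l 6)] (.imp (.one (.mul (.l 40) (.l 40))) (.imp (.not (.or (.mem 7 (.l 40)) (.or (.mem 8 (.l 40)) (.and (.mem 9 (.l 40)) (.not (.eq (.l 40) (.l 8))))))) (.or (.eq (.l 40) (.l 8)) (.ex 0 41 [(.l 40, .mul (.l 1) (.l 4))] (.tt)))))) (by decide +kernel)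

theorem dm_cls {G : Type*} [Group G] {γ : ℕ → G} (g : Gf dm γ 0 []) :
    ∀ g ∈ genW γ (dm.ws 0), g * g = 1 → g = 1 ∨ (∃ s ∈ genW γ (dm.ws 0), s * g * s⁻¹ = γ 6 ∨ s * g * s⁻¹ = γ 8 ∨ s * g * s⁻¹ = γ 1 ∨ s * g * s⁻¹ = γ 2 ∨ s * g * s⁻¹ = γ 2 * γ 5 ∨ s * g * s⁻¹ = γ 1 * γ 7 ∨ s * g * s⁻¹ = γ 2 * γ 7 ∨ s * g * s⁻¹ = γ 1 * γ 4 ∨ s * g * s⁻¹ = γ 1 * γ 5 ∨ s * g * s⁻¹ = γ 3) :=
  g.tr (φ := .all 0 40 [] (.imp (.one (.mul (.l 40) (.l 40))) (.or (.one (.l 40)) (.ex 0 41 [] (.or (.eq (.mul (.mul (.l 41) (.l 40)) (.inv (.l 41))) (.l 6)) (.or (.eq (.mul (.mul (.l 41) (.l 40)) (.inv (.l 41))) (.l 8)) (.or (.eq (.mul (.mul (.l 41) (.l 40)) (.inv (.l 41))) (.l 1)) (.or (.eq (.mul (.mul (.l 41) (.l 40)) (.inv (.l 41))) (.l 2)) (.or (.eq (.mul (.mul (.l 41) (.l 40)) (.inv (.l 41))) (.mul (.l 2) (.l 5))) (.or (.eq (.mul (.mul (.l 41) (.l 40)) (.inv (.l 41))) (.mul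 (.l 1) (.l 7))) (.or (.eq (.mul (.mul (.l 41) (.l 40)) (.inv (.l 41))) (.mul (.l 2) (.l 7))) (.or (.eq (.mul (.mul (.l 41) (.l 40)) (.inv (.l 41))) (.mul (.l 1) (.l 4))) (.or (.eq (.mul (.mul (.l 41) (.l 40)) (.inv (.l 41))) (.mul (.l 1) (.l 5))) (.eq (.mul (.mul (.l 41) (.l 40)) (.inv (.l 41))) (.l 3))))))))))))))) (by decide +kernel)

theorem dm_PA {G : Type*} [Group G] {γ : ℕ → G} (g : Gf dm γ 0 []) :
    ∀ q ∈ genW γ (dm.ws 4), q * q = 1 → ¬ TA γ q → ∃ s ∈ genW γ (dm.ws 0), s * q * s⁻¹ ∈ genW γ (dm.ws 5) :=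
  g.tr (φ := .all 4 40 [] (.imp (.one (.mul (.l 40) (.l 40))) (.imp (.not (.or (.mem 7 (.l 40)) (.or (.mem 8 (.l 40)) (.and (.mem 9 (.l 40)) (.not (.eq (.l 40) (.l 8))))))) (.ex 0 41 [] (.mem 5 (.mul (.mul (.l 41) (.l 40)) (.inv (.l 41)))))))) (by decide +kernel)

theorem dm_A1n {G : Type*} [Group G] {γ : ℕ → G} (g : Gf dm γ 0 []) :
    ∀ g ∈ genW γ (dm.ws 5), g * g = 1 ∧ (g = 1 ∨ ¬ TA γ g) :=
  g.tr (φ := .all 5 40 [] (.and (.one (.mul (.l 40) (.l 40))) (.or (.one (.l 40)) (.not (.or (.mem 7 (.l 40)) (.or (.mem 8 (.l 40)) (.and (.mem 9 (.l 40)) (.not (.eq (.l 40) (.l 8)))))))))) (by decide +kernel)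

theorem dm_V0 {G : Type*} [Group G] {γ : ℕ → G} (g : Gf dm γ 0 []) :
    ∀ g ∈ genW γ (dm.ws 12), g = 1 ∨ g = γ 8 ∨ g = γ 1 * γ 4 ∨ g = γ 8 * (γ 1 * γ 4) :=
  g.tr (φ := .all 12 40 [] (.or (.one (.l 40)) (.or (.eq (.l 40) (.l 8)) (.or (.eq (.l 40) (.mul (.l 1) (.l 4))) (.eq (.l 40) (.mul (.l 8) (.mul (.l 1) (.l 4)))))))) (by decide +kernel)

theorem dm_cJ {G : Type*} [Group G] {γ : ℕ → G} (g : Gf dm γ 0 []) :
    ∀ g ∈ genW γ (dm.ws 0), g * γ 6 = γ 6 * g → g ∈ genW γ (dm.ws 3) :=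
  g.tr (φ := .all 0 40 [(.l 6, .l 6)] (.mem 3 (.l 40))) (by decide +kernel)

theorem dm_zS {G : Type*} [Group G] {γ : ℕ → G} (g : Gf dm γ 0 []) :
    ∀ g ∈ genW γ (dm.ws 0), g * γ 1 = γ 1 * g → g * γ 2 = γ 2 * g → g * γ 3 = γ 3 * g → g = 1 ∨ g = γ 8 :=
  g.tr (φ := .all 0 40 [(.l 1, .l 1), (.l 2, .l 2), (.l 3, .l 3)] (.or (.one (.l 40)) (.eq (.l 40) (.l 8)))) (by decide +kernel)

theorem dm_V1 {G : Type*} [Group G] {γ : ℕ → G} (g : Gf dm γ 0 []) :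
    ∀ g ∈ genW γ (dm.ws 6), g = 1 ∨ g = γ 6 ∨ g = γ 1 ∨ g = γ 6 * γ 1 :=
  g.tr (φ := .all 6 40 [] (.or (.one (.l 40)) (.or (.eq (.l 40) (.l 6)) (.or (.eq (.l 40) (.l 1)) (.eq (.l 40) (.mul (.l 6) (.l 1))))))) (by decide +kernel)

theorem dm_V1t {G : Type*} [Group G] {γ : ℕ → G} (g : Gf dm γ 0 []) :
    ∀ g ∈ genW γ (dm.ws 6), g * g = 1 ∧ TA γ g :=
  g.tr (φ := .all 6 40 [] (.and (.one (.mul (.l 40) (.l 40))) (.or (.mem 7 (.l 40)) (.or (.mem 8 (.l 40)) (.and (.mem 9 (.l 40)) (.not (.eq (.l 40) (.l 8)))))))) (by decide +kernel)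

theorem dm_B2 {G : Type*} [Group G] {γ : ℕ → G} (g : Gf dm γ 0 []) :
    ∀ g ∈ genW γ (dm.ws 1), g * g = 1 :=
  g.tr (φ := .all 1 40 [] (.one (.mul (.l 40) (.l 40)))) (by decide +kernel)

theorem dm_E2 {G : Type*} [Group G] {γ : ℕ → G} (g : Gf dm γ 0 []) :
    ∀ g ∈ genW γ (dm.ws 2), g * g = 1 :=
  g.tr (φ := .all 2 40 [] (.one (.mul (.l 40) (.l 40)))) (by decide +kernel)

theorem dm_Z {G : Type*} [Group G] {γ : ℕ → G} (g : Gf dm γ 0 []) :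
    ∀ g ∈ genW γ (dm.ws 14), g = 1 ∨ g = γ 8 :=
  g.tr (φ := .all 14 40 [] (.or (.one (.l 40)) (.eq (.l 40) (.l 8)))) (by decide +kernel)

theorem dm_D2i {G : Type*} [Group G] {γ : ℕ → G} (g : Gf dm γ 0 []) :
    ∀ g ∈ genW γ (dm.ws 8), g * g = 1 → g = 1 ∨ g = γ 7 ∨ g = γ 4 ∨ g = γ 7 * γ 4 ∨ g = γ 5 ∨ g = γ 7 * γ 5 :=
  g.tr (φ := .all 8 40 [] (.imp (.one (.mul (.l 40) (.l 40))) (.or (.one (.l 40)) (.or (.eq (.l 40) (.l 7)) (.or (.eq (.l 40) (.l 4)) (.or (.eq (.l 40) (.mul (.l 7) (.l 4))) (.or (.eq (.l 40) (.l 5)) (.eq (.l 40) (.mul (.l 7) (.l 5)))))))))) (by decide +kernel)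

theorem dm_D2z {G : Type*} [Group G] {γ : ℕ → G} (g : Gf dm γ 0 []) :
    ∀ g ∈ genW γ (dm.ws 8), ∀ h ∈ genW γ (dm.ws 6), (g = h → g = 1) ∧ (g * γ 4 * g⁻¹ * (γ 4)⁻¹ = h → h = 1) ∧ (g * γ 5 * g⁻¹ * (γ 5)⁻¹ = h → h = 1) :=
  g.tr (φ := .all 8 40 [] (.all 6 41 [] (.and (.imp (.eq (.l 40) (.l 41)) (.one (.l 40))) (.and (.imp (.eq (.mul (.mul (.mul (.l 40) (.l 4)) (.inv (.l 40))) (.inv (.l 4))) (.l 41)) (.one (.l 41))) (.imp (.eq (.mul (.mul (.mul (.l 40) (.l 5)) (.inv (.l 40))) (.inv (.l 5))) (.l 41)) (.one (.l 41))))))) (by decide +kernel)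

theorem dm_D2c {G : Type*} [Group G] {γ : ℕ → G} (g : Gf dm γ 0 []) :
    ∀ g ∈ genW γ (dm.ws 8), g * γ 4 = γ 4 * g → g * γ 5 = γ 5 * g → g = 1 ∨ g = γ 7 :=
  g.tr (φ := .all 8 40 [(.l 4, .l 4), (.l 5, .l 5)] (.or (.one (.l 40)) (.eq (.l 40) (.l 7)))) (by decide +kernel)

theorem dm_vV {G : Type*} [Group G] {γ : ℕ → G} (g : Gf dm γ 0 []) :
    ∀ h ∈ genW γ (dm.ws 6), TA γ (γ 7 * h) → h = 1 :=
  g.tr (φ := .all 6 40 [] (.imp (.or (.mem 7 (.mul (.l 7) (.l 40))) (.or (.mem 8 (.mul (.l 7) (.l 40))) (.and (.mem 9 (.mul (.l 7) (.l 40))) (.not (.eq (.mul (.l 7) (.l 40)) (.l 8)))))) (.one (.l 40)))) (by decide +kernel)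

theorem dm_RV {G : Type*} [Group G] {γ : ℕ → G} (g : Gf dm γ 0 []) :
    ∀ g ∈ genW γ (dm.ws 10), ∃ h ∈ genW γ (dm.ws 6), h * g ∈ genW γ (dm.ws 8) :=
  g.tr (φ := .all 10 40 [] (.ex 6 41 [] (.mem 8 (.mul (.l 41) (.l 40))))) (by decide +kernel)

theorem dm_V1g {G : Type*} [Group G] {γ : ℕ → G} (g : Gf dm γ 0 []) :
    ∀ p ∈ genW γ (dm.ws 6), ∀ q ∈ genW γ (dm.ws 6), p ≠ 1 → q ≠ 1 → p ≠ q → (γ 6 = p ∨ γ 6 = q ∨ γ 6 = p * q) ∧ (γ 1 = p ∨ γ 1 = q ∨ γ 1 = p * q) :=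
  g.tr (φ := .all 6 40 [] (.all 6 41 [] (.imp (.not (.one (.l 40))) (.imp (.not (.one (.l 41))) (.imp (.not (.eq (.l 40) (.l 41))) (.and (.or (.eq (.l 6) (.l 40)) (.or (.eq (.l 6) (.l 41)) (.eq (.l 6) (.mul (.l 40) (.l 41))))) (.or (.eq (.l 1) (.l 40)) (.or (.eq (.l 1) (.l 41)) (.eq (.l 1) (.mul (.l 40) (.l 41))))))))))) (by decide +kernel)

theorem dm_E12 {G : Type*} [Group G] {γ : ℕ → G} (g : Gf dm γ 0 []) :
    ∀ g ∈ genW γ (dm.ws 9), g * g = 1 :=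
  g.tr (φ := .all 9 40 [] (.one (.mul (.l 40) (.l 40)))) (by decide +kernel)

theorem dm_cBP {G : Type*} [Group G] {γ : ℕ → G} (g : Gf dm γ 0 []) :
    ∀ g ∈ genW γ (dm.ws 4), g * γ 6 = γ 6 * g → g * (γ 1 * γ 4) = γ 1 * γ 4 * g → g ∈ genW γ (dm.ws 15) :=
  g.tr (φ := .all 4 40 [(.l 6, .l 6), (.mul (.l 1) (.l 4), .mul (.l 1) (.l 4))] (.mem 15 (.l 40))) (by decide +kernel)

theorem dm_SJ {G : Type*} [Group G] {γ : ℕ → G} (g : Gf dm γ 0 []) :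
    ∀ g ∈ genW γ (dm.ws 0), g ∈ genW γ (dm.ws 3) ∨ γ 3 * g ∈ genW γ (dm.ws 3) :=
  g.tr (φ := .all 0 40 [] (.or (.mem 3 (.l 40)) (.mem 3 (.mul (.l 3) (.l 40))))) (by decide +kernel)

end Cfsg.Lib.DW
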